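import Cfsg.Agent.H759.Dl.Small
import Cfsg.Agent.H593.IMCount2
import Cfsg.Agent.H419.Count_m3
import Cfsg.Agent.FastGrp
import Cfsg.Agent.Prune
set_option linter.all false
prune_inst 0x7f00000000000000000000000000000000000000000000000000000000000000000000000000000000000000000000000000000000000000000000000000000000000000000000000000000000000000003ff7f7f7ffffffffffffffffffffbeffbdebfeffff
open scoped Cfsg.Agent.FastGrp

/-!
# Criteria for `Many` (S4769; helper454, task DL-CRIT)

* `Many.of_card`, `Many.of_card_irr` : more than `(m - 1) * |Out S|` irreducible characters of degree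
  divisible by `p`;
* `Many.of_numPrime` : at most `b` characters have degree prime to `p` and `(m - 1) * |Out S| + b < k(S)`;
* `Many.of_count`, `Many.of_count'` : counting with the centralizer of a `p`-element;
* `Many.of_indep` : `m` independent `Aut`-invariant class functions supported on characters of degree
  divisible by `p`;
* `Many.cons`, `Many.of_two`, `Many.of_two_degree` : adding a character.
-/

set_option autoImplicit false

open Cfsg

namespace Cfsg.Agent.H454.DlCrit

open Cfsg.Agent.Characters.Core Cfsg.Agent.H246.Dl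
open scoped ComplexConjugate

universe u

section basic

variable {S : Type u} [Group S]

/-- The twist of an irreducible character by an automorphism. -/
def tw (χ : IrrCharacter S) (σ : S ≃* S) : IrrCharacter S :=
  ⟨(χ : S → ℂ) ∘ σ, isIrr_comp σ.toMonoidHom σ.surjective χ.2⟩

/-- Conjugacy under automorphisms. -/
def Aeq (χ ψ : IrrCharacter S) : Prop := ∃ σ : S ≃* S, ∀ g, (χ : S → ℂ) (σ g) = (ψ : S → ℂ) g

theorem Aeq.refl (χ : IrrCharacter S) : Aeq χ χ := ⟨MulEquiv.refl S, fun _ => rfl⟩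

theorem Aeq.symm {χ ψ : IrrCharacter S} (h : Aeq χ ψ) : Aeq ψ χ := by
  obtain ⟨σ, hσ⟩ := h
  refine ⟨σ.symm, fun g => ?_⟩
  rw [← hσ, σ.apply_symm_apply]

theorem Aeq.trans {χ ψ θ : IrrCharacter S} (h : Aeq χ ψ) (h' : Aeq ψ θ) : Aeq χ θ := by
  obtain ⟨σ, hσ⟩ := h
  obtain ⟨τ, hτ⟩ := h'
  refine ⟨τ.trans σ, fun g => ?_⟩
  rw [MulEquiv.trans_apply, hσ, hτ]

/-- The equivalence relation. -/
def aSetoid (S : Type u) [Group S] : Setoid (IrrCharacter S) :=
  ⟨Aeq, fun χ => Aeq.refl χ, fun h => h.symm, fun h h' => h.trans h'⟩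

theorem mk_eq_iff {χ ψ : IrrCharacter S} :
    (Quotient.mk (aSetoid S) χ) = Quotient.mk (aSetoid S) ψ ↔ Aeq χ ψ :=
  Quotient.eq (r := aSetoid S)

variable {p : ℕ}

/-- `Many` from a set of classes. -/
theorem many_of_classes (s : Finset (Quotient (aSetoid S)))
    (hs : ∀ c ∈ s, ∃ χ : IrrCharacter S, Quotient.mk (aSetoid S) χ = c ∧ p ∣ charDegree (χ : S → ℂ)) :
    Many p S s.card := by
  classical
  choose χ h1 h2 using hs
  refine ⟨fun i => χ (s.equivFin.symm i) (s.equivFin.symm i).2,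
    fun i => h2 _ (s.equivFin.symm i).2, fun i j hij σ => ?_⟩
  by_contra hcon
  push Not at hcon
  apply hij
  have h3 : Aeq (χ (s.equivFin.symm i) (s.equivFin.symm i).2)
      (χ (s.equivFin.symm j) (s.equivFin.symm j).2) := ⟨σ, hcon⟩
  rw [← mk_eq_iff, h1 _ (s.equivFin.symm i).2, h1 _ (s.equivFin.symm j).2] at h3
  exact s.equivFin.symm.injective (Subtype.ext h3)

/-- The outer automorphism group as a set of cosets. -/
abbrev OutQ (S : Type u) [Group S] : Type u := MulAut S ⧸ (MulAut.conj (G := S)).range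

instance instFiniteOutQ454 [Finite S] : Finite (OutQ S) := by
  have : Finite (MulAut S) :=
    Finite.of_injective (fun σ : MulAut S => (σ : S → S)) (fun a b h => MulEquiv.ext (congrFun h))
  exact Quotient.finite _

/-- The twist by a class of automorphisms. -/
def twQ [Finite S] (χ : IrrCharacter S) (o : OutQ S) : IrrCharacter S :=
  Quotient.liftOn' o (fun σ : MulAut S => tw χ σ) (by
    intro σ τ h
    rw [QuotientGroup.leftRel_apply] at h
    obtain ⟨g, hg⟩ := h
    have e : τ = σ * MulAut.conj g := by rw [hg]; group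
    apply Subtype.ext
    funext s
    show (χ : S → ℂ) (σ s) = (χ : S → ℂ) (τ s)
    have h1 : τ s = σ g * σ s * (σ g)⁻¹ := by
      rw [e]
      show σ (g * s * g⁻¹) = _
      rw [map_mul, map_mul, map_inv]
    rw [h1]
    exact (isIrr_isClassFunction χ.2 _ _).symm)

theorem exists_twQ [Finite S] {χ ψ : IrrCharacter S} (h : Aeq χ ψ) : ∃ o, twQ χ o = ψ := by
  obtain ⟨σ, hσ⟩ := h
  refine ⟨QuotientGroup.mk (s := (MulAut.conj (G := S)).range) (σ : MulAut S), ?_⟩
  apply Subtype.ext
  funext s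
  exact hσ s

/-- An `Aut S`-orbit of characters has at most `|Out S|` elements. -/
theorem card_filter_le [Finite S] (χ : IrrCharacter S) (T : Finset (IrrCharacter S))
    (hT : ∀ ψ ∈ T, Aeq χ ψ) : T.card ≤ Nat.card (OutQ S) := by
  classical
  have := Fintype.ofFinite (OutQ S)
  have h1 : T ⊆ Finset.univ.image (twQ χ) := by
    intro ψ hψ
    obtain ⟨o, ho⟩ := exists_twQ (hT ψ hψ)
    exact Finset.mem_image.2 ⟨o, Finset.mem_univ _, ho⟩
  calc T.card ≤ (Finset.univ.image (twQ χ)).card := Finset.card_le_card h1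
    _ ≤ (Finset.univ : Finset (OutQ S)).card := Finset.card_image_le
    _ = Nat.card (OutQ S) := by rw [Finset.card_univ, Nat.card_eq_fintype_card]

/-- **(a)** More than `(m - 1) * |Out S|` irreducible characters of degree divisible by `p`. -/
theorem Many.of_card_irr [Finite S] {m : ℕ} (T : Finset (IrrCharacter S))
    (hT : ∀ χ ∈ T, p ∣ charDegree (χ : S → ℂ))
    (h : (m - 1) * Nat.card (OutQ S) < T.card) : Many p S m := by
  classical
  have h1 : T.card ≤ Nat.card (OutQ S) * (T.image (Quotient.mk (aSetoid S))).card := by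
    refine Finset.card_le_mul_card_image T _ ?_
    intro c hc
    obtain ⟨χ, hχ, rfl⟩ := Finset.mem_image.1 hc
    refine card_filter_le χ _ ?_
    intro ψ hψ
    exact (mk_eq_iff.1 (Finset.mem_filter.1 hψ).2).symm
  have h2 : m ≤ (T.image (Quotient.mk (aSetoid S))).card := by
    have h3 : (m - 1) * Nat.card (OutQ S) <
        (T.image (Quotient.mk (aSetoid S))).card * Nat.card (OutQ S) := by
      rw [mul_comm (Nat.card (OutQ S))] at h1
      exact lt_of_lt_of_le h h1
    have h4 := Nat.lt_of_mul_lt_mul_right h3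
    omega
  refine (many_of_classes (p := p) (T.image (Quotient.mk (aSetoid S))) ?_).mono h2
  intro c hc
  obtain ⟨χ, hχ, rfl⟩ := Finset.mem_image.1 hc
  exact ⟨χ, rfl, hT χ hχ⟩

/-- **(a)** for a set of functions. -/
theorem Many.of_card [Finite S] {m : ℕ} (T : Finset (S → ℂ))
    (hT : ∀ χ ∈ T, IsIrrCharacter S χ ∧ p ∣ charDegree χ)
    (h : (m - 1) * Nat.card (MulAut S ⧸ (MulAut.conj (G := S)).range) < T.card) : Many p S m := by
  classical
  let f : {x // x ∈ T} ↪ IrrCharacter S :=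
    ⟨fun x => ⟨x.1, (hT x.1 x.2).1⟩, fun a b hab => Subtype.ext
      (congrArg (fun χ : IrrCharacter S => (χ : S → ℂ)) hab)⟩
  refine Many.of_card_irr (T.attach.map f) ?_ ?_
  · intro χ hχ
    obtain ⟨x, -, rfl⟩ := Finset.mem_map.1 hχ
    exact (hT x.1 x.2).2
  · rw [Finset.card_map, Finset.card_attach]
    exact h

/-- **(a)** with a bound for `|Out S|`. -/
theorem Many.of_card_out [Finite S] {m o : ℕ} (ho : Nat.card (OutQ S) ≤ o)
    (T : Finset (S → ℂ)) (hT : ∀ χ ∈ T, IsIrrCharacter S χ ∧ p ∣ charDegree χ)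
    (h : (m - 1) * o < T.card) : Many p S m :=
  Many.of_card T hT (lt_of_le_of_lt (Nat.mul_le_mul_left _ ho) h)

/-- `|Out S| = 1` if all automorphisms are inner. -/
theorem card_out_of_inner [Finite S] (h : ∀ σ : MulAut S, ∃ g : S, σ = MulAut.conj g) :
    Nat.card (OutQ S) ≤ 1 := by
  have : Subsingleton (OutQ S) := by
    refine ⟨fun a b => ?_⟩
    induction a using QuotientGroup.induction_on with
    | H σ =>
      induction b using QuotientGroup.induction_on with
      | H τ =>
        rw [QuotientGroup.eq]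
        obtain ⟨g, hg⟩ := h (σ⁻¹ * τ)
        exact ⟨g, hg.symm⟩
  exact Finite.card_le_one_iff_subsingleton.2 this

/-! ### (b) counting -/

theorem card_irr_filter [Finite S] [Fintype (IrrCharacter S)] (q : IrrCharacter S → Prop)
    [DecidablePred q] {b : ℕ} (hb : Nat.card {χ : IrrCharacter S // ¬ q χ} ≤ b) :
    Nat.card (ConjClasses S) ≤ (Finset.univ.filter q).card + b := by
  rw [← card_irr, Nat.card_eq_fintype_card, ← Finset.card_univ,
    ← Finset.card_filter_add_card_filter_not (s := Finset.univ) q]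
  rw [Nat.card_eq_fintype_card, Fintype.card_subtype] at hb
  omega

/-- **(b0)** At most `b` characters of degree prime to `p`. -/
theorem Many.of_numPrime [Finite S] {m b o : ℕ} (ho : Nat.card (OutQ S) ≤ o)
    (hb : Nat.card {χ : IrrCharacter S // ¬ p ∣ charDegree (χ : S → ℂ)} ≤ b)
    (h : (m - 1) * o + b < Nat.card (ConjClasses S)) : Many p S m := by
  classical
  have := finite_irr (G := S)
  have := Fintype.ofFinite (IrrCharacter S)
  refine Many.of_card_irr (Finset.univ.filter fun χ : IrrCharacter S => p ∣ charDegree (χ : S → ℂ))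
    (fun χ hχ => (Finset.mem_filter.1 hχ).2) ?_
  have h1 := card_irr_filter (fun χ : IrrCharacter S => p ∣ charDegree (χ : S → ℂ)) hb
  have h2 : (m - 1) * Nat.card (OutQ S) ≤ (m - 1) * o := Nat.mul_le_mul_left _ ho
  omega

/-- The number of irreducible characters of degree prime to `p` is at most the number of those which
do not vanish at a given `p`-element. -/
theorem card_prime_le [hp : Fact p.Prime] [Finite S] {x : S} (hx : ∃ j : ℕ, orderOf x = p ^ j) :
    Nat.card {χ : IrrCharacter S // ¬ p ∣ charDegree (χ : S → ℂ)} ≤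
      Nat.card {χ : IrrCharacter S // (χ : S → ℂ) x ≠ 0} := by
  have := finite_irr (G := S)
  refine Nat.card_le_card_of_injective (fun χ => ⟨χ.1, fun h0 => χ.2 ?_⟩) ?_
  · exact Cfsg.Agent.S4558.result p (χ.1 : S → ℂ) (isIrr_isCharacter χ.1.2) x hx h0
  · intro a b hab
    exact Subtype.ext (congrArg (fun y : {χ : IrrCharacter S // (χ : S → ℂ) x ≠ 0} => y.1) hab)

open Cfsg.Agent.H593.IMCount in
/-- At most `|C_G(x)|_p * l(C_G(x))` irreducible characters do not vanish at the `p`-element `x`. -/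
theorem card_nonzero_le' [hp : Fact p.Prime] [Finite S] {x : S} (hx : ∃ j : ℕ, orderOf x = p ^ j) :
    Nat.card {χ : IrrCharacter S // (χ : S → ℂ) x ≠ 0} ≤
      p ^ (Nat.card (Subgroup.centralizer ({x} : Set S))).factorization p *
        numReg p (Subgroup.centralizer ({x} : Set S)) := by
  classical
  have := Fintype.ofFinite S
  have := Fintype.ofFinite (Subgroup.centralizer ({x} : Set S))
  have hfin := finite_irr (G := S)
  have := Fintype.ofFinite (IrrCharacter S)
  have : NeZero (Nat.card S) := ⟨Nat.card_pos.ne'⟩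
  set A : Finset (IrrCharacter S) := Finset.univ.filter fun χ => (χ : S → ℂ) x ≠ 0 with hA
  have h1 : ∀ χ ∈ A, (Fintype.card (ZMod (Nat.card S))ˣ : ℝ) ≤
      ∑ u : (ZMod (Nat.card S))ˣ, RR p (χ : S → ℂ) x (u : ZMod (Nat.card S)).val := fun χ hχ =>
    card_le_sum_nonneg (galFam_FF (p := p) (x := x) (isIrr_isCharacter χ.2))
      (RR_one_ne_zero (Finset.mem_filter.1 hχ).2) (fun k => FF_eq_real _ k)
      (fun k => RR_nonneg _ k)
  have h2 := Finset.sum_le_sum (s := A) fun χ hχ => h1 χ hχ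
  have h2' : ∑ χ ∈ A, ∑ u : (ZMod (Nat.card S))ˣ, RR p (χ : S → ℂ) x (u : ZMod (Nat.card S)).val ≤
      ∑ χ : IrrCharacter S, ∑ u : (ZMod (Nat.card S))ˣ,
        RR p (χ : S → ℂ) x (u : ZMod (Nat.card S)).val :=
    Finset.sum_le_sum_of_subset_of_nonneg (Finset.subset_univ _)
      (fun χ _ _ => Finset.sum_nonneg fun u _ => RR_nonneg _ _)
  replace h2 := h2.trans h2'
  rw [Finset.sum_const, Finset.sum_comm] at h2
  have h3 : ∀ u : (ZMod (Nat.card S))ˣ, ∑ χ : IrrCharacter S,
      RR p (χ : S → ℂ) x (u : ZMod (Nat.card S)).val =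
      (p ^ (Nat.card (Subgroup.centralizer ({x} : Set S))).factorization p *
        numReg p (Subgroup.centralizer ({x} : Set S)) : ℕ) := fun u =>
    sum_RR hx (ZMod.val_coe_unit_coprime u)
  simp only [h3] at h2
  rw [Finset.sum_const, Finset.card_univ, nsmul_eq_mul, nsmul_eq_mul,
    mul_comm (Fintype.card (ZMod (Nat.card S))ˣ : ℝ)] at h2
  have hpos : (0 : ℝ) < Fintype.card (ZMod (Nat.card S))ˣ := by exact_mod_cast Fintype.card_pos
  have h4 := le_of_mul_le_mul_right h2 hpos
  have h5 : A.card ≤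
      p ^ (Nat.card (Subgroup.centralizer ({x} : Set S))).factorization p *
        numReg p (Subgroup.centralizer ({x} : Set S)) := by exact_mod_cast h4
  rw [Nat.card_eq_fintype_card, Fintype.card_subtype]
  exact h5

/-- At most `|C_G(x)|` irreducible characters do not vanish at `x`. -/
theorem card_nonzero_le [Finite S] (x : S) :
    Nat.card {χ : IrrCharacter S // (χ : S → ℂ) x ≠ 0} ≤
      Nat.card (Subgroup.centralizer ({x} : Set S)) := by
  classical
  have : Finite (IrrCharacter S) := finite_irr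
  have := Fintype.ofFinite (IrrCharacter S)
  set A : Finset (IrrCharacter S) := Finset.univ.filter fun χ => (χ : S → ℂ) x ≠ 0 with hA
  have hcon : ∀ χ ∈ A, (χ : S → ℂ) x ≠ 0 := fun χ h => (Finset.mem_filter.1 h).2
  set P : ℂ := ∏ χ ∈ A, (χ : S → ℂ) x with hP
  have hP0 : P ≠ 0 := Finset.prod_ne_zero_iff.mpr hcon
  have hPint : IsIntegral ℤ P := by
    refine IsIntegral.prod _ fun χ _ => ?_
    exact Cfsg.Agent.Characters.GaloisBasic.isIntegral_apply (isIrr_isCharacter χ.2) x
  have hfix : ∀ σ : ℂ ≃+* ℂ, σ P = P := by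
    intro σ
    rw [hP, map_prod]
    let f : IrrCharacter S → IrrCharacter S := fun χ =>
      ⟨fun g => σ ((χ : S → ℂ) g), Cfsg.Agent.Characters.GaloisIrr.isIrr_map σ χ.2⟩
    have hf : Function.Injective f := by
      intro χ ψ h
      apply Subtype.ext
      funext g
      have h1 := congrFun (congrArg (fun χ : IrrCharacter S => (χ : S → ℂ)) h) g
      exact σ.injective h1
    have hb : Function.Bijective f := Finite.injective_iff_bijective.1 hf
    let e : IrrCharacter S ≃ IrrCharacter S := Equiv.ofBijective f hb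
    have hAe : ∀ χ, χ ∈ A ↔ e χ ∈ A := by
      intro χ
      simp only [hA, Finset.mem_filter, Finset.mem_univ, true_and]
      show (χ : S → ℂ) x ≠ 0 ↔ σ ((χ : S → ℂ) x) ≠ 0
      rw [Ne, Ne, map_eq_zero_iff σ σ.injective]
    exact Finset.prod_equiv e hAe (fun χ _ => rfl)
  obtain ⟨k, hk⟩ := Cfsg.Agent.Characters.GaloisBasic.exists_int_of_isIntegral hPint
    (Cfsg.Agent.Characters.GaloisBasic.exists_rat_of_forall_ringEquiv (hPint.tower_top) hfix)
  have hk0 : k ≠ 0 := by
    rintro rfl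
    exact hP0 (by rw [hk]; simp)
  have hPnorm : 1 ≤ ‖P‖ := by
    rw [hk, Complex.norm_intCast]
    exact_mod_cast Int.one_le_abs hk0
  have hpos : ∀ χ ∈ A, 0 < ‖(χ : S → ℂ) x‖ ^ 2 := fun χ hχ => by
    have := norm_pos_iff.mpr (hcon χ hχ)
    positivity
  have hAG : (A.card : ℝ) ≤ ∑ χ ∈ A, ‖(χ : S → ℂ) x‖ ^ 2 := by
    have h1 : ∑ χ ∈ A, (Real.log (‖(χ : S → ℂ) x‖ ^ 2) + 1) ≤
        ∑ χ ∈ A, ‖(χ : S → ℂ) x‖ ^ 2 := by
      refine Finset.sum_le_sum fun g hg => ?_
      have := Real.log_le_sub_one_of_pos (hpos g hg)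
      linarith
    have h2 : 0 ≤ ∑ χ ∈ A, Real.log (‖(χ : S → ℂ) x‖ ^ 2) := by
      rw [← Real.log_prod (fun g hg => (hpos g hg).ne'), Finset.prod_pow, ← norm_prod]
      apply Real.log_nonneg
      exact one_le_pow₀ hPnorm
    rw [Finset.sum_add_distrib, Finset.sum_const, nsmul_eq_mul, mul_one] at h1
    linarith
  have hsum : ((∑ χ : IrrCharacter S, ‖(χ : S → ℂ) x‖ ^ 2 : ℝ) : ℂ) =
      Nat.card (Subgroup.centralizer ({x} : Set S)) := by
    have h1 := (Cfsg.Agent.S0145.result x x).1 (IsConj.refl x)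
    rw [finsum_eq_sum_of_fintype] at h1
    rw [← h1, Complex.ofReal_sum]
    refine Finset.sum_congr rfl fun χ _ => ?_
    rw [Complex.mul_conj, Complex.normSq_eq_norm_sq]
  have hsum' : ∑ χ : IrrCharacter S, ‖(χ : S → ℂ) x‖ ^ 2 =
      (Nat.card (Subgroup.centralizer ({x} : Set S)) : ℝ) := by exact_mod_cast hsum
  have h6 : ∑ χ ∈ A, ‖(χ : S → ℂ) x‖ ^ 2 ≤ ∑ χ : IrrCharacter S, ‖(χ : S → ℂ) x‖ ^ 2 :=
    Finset.sum_le_sum_of_subset_of_nonneg (Finset.subset_univ _) (fun χ _ _ => by positivity)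
  rw [hsum'] at h6
  rw [Nat.card_eq_fintype_card, Fintype.card_subtype]
  exact_mod_cast hAG.trans h6

/-- **(b)** Counting with the centralizer of a `p`-element, `|Out S| ≤ o`, `c ≤ k(S)`. -/
theorem Many.of_count_le [hp : Fact p.Prime] [Finite S] {m o c : ℕ} {x : S}
    (hx : ∃ j : ℕ, orderOf x = p ^ j) (ho : Nat.card (OutQ S) ≤ o)
    (hc : c ≤ Nat.card (ConjClasses S))
    (h : (m - 1) * o + Nat.card (Subgroup.centralizer ({x} : Set S)) < c) : Many p S m :=
  Many.of_numPrime ho ((card_prime_le hx).trans (card_nonzero_le x)) (lt_of_lt_of_le h hc)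

open Cfsg.Agent.H593.IMCount in
/-- **(b')** with bounds. -/
theorem Many.of_count_le' [hp : Fact p.Prime] [Finite S] {m o c b : ℕ} {x : S}
    (hx : ∃ j : ℕ, orderOf x = p ^ j) (ho : Nat.card (OutQ S) ≤ o)
    (hc : c ≤ Nat.card (ConjClasses S))
    (hb : p ^ (Nat.card (Subgroup.centralizer ({x} : Set S))).factorization p *
        numReg p (Subgroup.centralizer ({x} : Set S)) ≤ b)
    (h : (m - 1) * o + b < c) : Many p S m :=
  Many.of_numPrime ho (((card_prime_le hx).trans (card_nonzero_le' hx)).trans hb)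
    (lt_of_lt_of_le h hc)

/-! ### (c) independent invariant class functions -/

theorem classInner_tw [Fintype S] (f : S → ℂ) (χ : IrrCharacter S) (σ : S ≃* S)
    (hf : ∀ g, f (σ g) = f g) : classInner f (tw χ σ : S → ℂ) = classInner f (χ : S → ℂ) := by
  unfold classInner
  congr 1
  refine Fintype.sum_equiv σ.toEquiv _ _ fun g => ?_
  show f g * conj ((χ : S → ℂ) (σ g)) = f (σ g) * conj ((χ : S → ℂ) (σ g))
  rw [hf]

/-- **(c)** `m` linearly independent `Aut S`-invariant class functions all of whose constituents have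
degree divisible by `p`. -/
theorem Many.of_indep [Fintype S] {m : ℕ} (ψ : Fin m → (S → ℂ)) (hli : LinearIndependent ℂ ψ)
    (hcf : ∀ i, IsClassFunction S (ψ i)) (hA : ∀ i (σ : S ≃* S) g, ψ i (σ g) = ψ i g)
    (hp : ∀ i (χ : IrrCharacter S), classInner (ψ i) (χ : S → ℂ) ≠ 0 →
      p ∣ charDegree (χ : S → ℂ)) : Many p S m := by
  classical
  have := finite_irr (G := S)
  have := Fintype.ofFinite (IrrCharacter S)
  set T : Finset (IrrCharacter S) :=
    Finset.univ.filter fun χ : IrrCharacter S => p ∣ charDegree (χ : S → ℂ) with hT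
  set s : Finset (Quotient (aSetoid S)) := T.image (Quotient.mk (aSetoid S)) with hs
  have h0 : Many p S s.card := many_of_classes (p := p) s (by
    intro c hc
    obtain ⟨χ, hχ, rfl⟩ := Finset.mem_image.1 hc
    exact ⟨χ, rfl, (Finset.mem_filter.1 hχ).2⟩)
  refine h0.mono ?_
  let θ : Quotient (aSetoid S) → (S → ℂ) := fun c =>
    ∑ χ ∈ T.filter (fun χ => Quotient.mk (aSetoid S) χ = c), (χ : S → ℂ)
  have hspan : Set.range ψ ≤ (Submodule.span ℂ (s.image θ : Set (S → ℂ)) : Set (S → ℂ)) := by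
    rintro _ ⟨i, rfl⟩
    have h1 : ψ i = ∑ χ ∈ T, classInner (ψ i) (χ : S → ℂ) • (χ : S → ℂ) := by
      conv_lhs => rw [classFunction_eq_sum (hcf i)]
      rw [hT, Finset.sum_filter]
      refine Finset.sum_congr rfl fun χ _ => ?_
      by_cases h : classInner (ψ i) (χ : S → ℂ) = 0
      · rw [h, zero_smul, ite_self]
      · rw [if_pos (hp i χ h)]
    have h2 : ψ i = ∑ c ∈ s, ∑ χ ∈ T.filter (fun χ => Quotient.mk (aSetoid S) χ = c),
        classInner (ψ i) (χ : S → ℂ) • (χ : S → ℂ) := by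
      rw [Finset.sum_fiberwise_of_maps_to (fun χ hχ => Finset.mem_image_of_mem _ hχ)]
      exact h1
    rw [h2]
    refine Submodule.sum_mem _ fun c hc => ?_
    obtain ⟨χ₀, hχ₀, rfl⟩ := Finset.mem_image.1 hc
    have h3 : ∀ χ ∈ T.filter (fun χ => Quotient.mk (aSetoid S) χ = Quotient.mk (aSetoid S) χ₀),
        classInner (ψ i) (χ : S → ℂ) • (χ : S → ℂ) =
          classInner (ψ i) (χ₀ : S → ℂ) • (χ : S → ℂ) := by
      intro χ hχ
      obtain ⟨σ, hσ⟩ := (mk_eq_iff.1 (Finset.mem_filter.1 hχ).2).symm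
      have h4 : tw χ₀ σ = χ := Subtype.ext (funext hσ)
      rw [← h4, classInner_tw _ _ _ (hA i σ)]
    rw [Finset.sum_congr rfl h3, ← Finset.smul_sum]
    refine Submodule.smul_mem _ _ (Submodule.subset_span ?_)
    exact_mod_cast Finset.mem_image_of_mem θ hc
  have h5 := linearIndependent_le_span_aux' ψ hli (s.image θ : Set (S → ℂ)) hspan
  rw [Fintype.card_fin] at h5
  refine h5.trans ?_
  have h6 : Fintype.card ↑((s.image θ : Finset (S → ℂ)) : Set (S → ℂ)) = (s.image θ).card := by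
    simp
  rw [h6]
  exact Finset.card_image_le

/-! ### (d) adding characters -/

/-- **(d)** One more orbit. -/
theorem Many.cons {m : ℕ} (χ : Fin m → IrrCharacter S) (hχ : ∀ i, p ∣ charDegree (χ i : S → ℂ))
    (hne : ∀ i j, i ≠ j → ∀ σ : S ≃* S, ∃ g, (χ i : S → ℂ) (σ g) ≠ (χ j : S → ℂ) g)
    (ψ : IrrCharacter S) (hψ : p ∣ charDegree (ψ : S → ℂ))
    (hψχ : ∀ i, ∀ σ : S ≃* S, ∃ g, (ψ : S → ℂ) (σ g) ≠ (χ i : S → ℂ) g) : Many p S (m + 1) := by
  have hsymm : ∀ {α β : IrrCharacter S}, (∀ σ : S ≃* S, ∃ g, (α : S → ℂ) (σ g) ≠ (β : S → ℂ) g) →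
      ∀ σ : S ≃* S, ∃ g, (β : S → ℂ) (σ g) ≠ (α : S → ℂ) g := by
    intro α β h σ
    obtain ⟨s, hs⟩ := h σ.symm
    refine ⟨σ.symm s, fun h2 => hs ?_⟩
    rw [σ.apply_symm_apply] at h2
    exact h2.symm
  refine ⟨Fin.cons ψ χ, fun i => ?_, fun i j hij => ?_⟩
  · refine Fin.cases ?_ (fun i => ?_) i
    · exact hψ
    · exact hχ i
  · revert hij
    refine Fin.cases ?_ (fun i => ?_) i
    · refine Fin.cases ?_ (fun j => ?_) j
      · intro h
        exact absurd rfl h
      · intro _
        exact hψχ j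
    · refine Fin.cases ?_ (fun j => ?_) j
      · intro _
        exact hsymm (hψχ i)
      · intro h
        exact hne i j (fun h' => h (by rw [h']))

/-- **(d)** One more orbit, distinguished by the degree. -/
theorem Many.cons_of_degree {m : ℕ} (χ : Fin m → IrrCharacter S)
    (hχ : ∀ i, p ∣ charDegree (χ i : S → ℂ))
    (hne : ∀ i j, i ≠ j → ∀ σ : S ≃* S, ∃ g, (χ i : S → ℂ) (σ g) ≠ (χ j : S → ℂ) g)
    (ψ : IrrCharacter S) (hψ : p ∣ charDegree (ψ : S → ℂ))
    (hd : ∀ i, charDegree (ψ : S → ℂ) ≠ charDegree (χ i : S → ℂ)) : Many p S (m + 1) := by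
  refine Many.cons χ hχ hne ψ hψ fun i σ => ⟨1, fun h => hd i ?_⟩
  rw [map_one] at h
  simp only [charDegree, h]

/-- **(e)** Two orbits of characters whose degrees avoid a third degree. -/
theorem Many.of_two_degree {α β ψ : IrrCharacter S} (ha : p ∣ charDegree (α : S → ℂ))
    (hb : p ∣ charDegree (β : S → ℂ)) (hψ : p ∣ charDegree (ψ : S → ℂ))
    (hab : ∀ σ : S ≃* S, ∃ g, (α : S → ℂ) (σ g) ≠ (β : S → ℂ) g)
    (h1 : charDegree (ψ : S → ℂ) ≠ charDegree (α : S → ℂ))
    (h2 : charDegree (ψ : S → ℂ) ≠ charDegree (β : S → ℂ)) : Many p S 3 := by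
  have hsymm : ∀ σ : S ≃* S, ∃ g, (β : S → ℂ) (σ g) ≠ (α : S → ℂ) g := by
    intro σ
    obtain ⟨s, hs⟩ := hab σ.symm
    refine ⟨σ.symm s, fun h2 => hs ?_⟩
    rw [σ.apply_symm_apply] at h2
    exact h2.symm
  have h3 : Many p S (2 + 1) := by
    refine Many.cons_of_degree ![α, β] ?_ ?_ ψ hψ ?_
    · intro i
      fin_cases i
      · exact ha
      · exact hb
    · intro i j hij
      fin_cases i <;> fin_cases j
      · exact absurd rfl hij
      · exact hab
      · exact hsymm
      · exact absurd rfl hij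
    · intro i
      fin_cases i
      · exact h1
      · exact h2
  exact h3

end basic

end Cfsg.Agent.H454.DlCrit
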